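import Mathlib
import Groth.Prelude.Def_FlatCA

/-!
# Monomorphisms locally of finite type over a limit of nil-thickenings

`A = lim A_n` with surjective transition maps with locally nilpotent kernels.  A monomorphism
`T ⟶ Spec A` locally of finite type through which all `Spec A_n ⟶ Spec A` factor is an isomorphism.
The proof uses Zariski's main theorem (Mathlib: `toNormalization` is an open immersion for
separated quasi-finite morphisms).
-/

set_option autoImplicit false
set_option backward.isDefEq.respectTransparency.types false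
set_option synthInstance.maxHeartbeats 400000
set_option maxHeartbeats 4000000
set_option linter.style.haveILetI false
set_option linter.unusedSectionVars false
set_option linter.unusedVariables false

universe u

namespace Groth.Agent.Helper2.NilLimit

open AlgebraicGeometry CategoryTheory

section Alg

variable {A : Type u} [CommRing A] {A' : ℕ → Type u} [∀ n, CommRing (A' n)]
    {φ : ∀ n, A' (n + 1) →+* A' n} {π : ∀ n, A →+* A' n}

lemma pi_zero_surjective (hlim : FlatCA.IsRingLimit A A' φ π)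
    (hsurj : ∀ n, Function.Surjective (φ n)) : Function.Surjective (π 0) := by
  intro x0
  let x : ∀ n, A' n := fun n =>
    Nat.rec (motive := fun n => A' n) x0 (fun n xn => (hsurj n xn).choose) n
  have hx : ∀ n, φ n (x (n + 1)) = x n := fun n => (hsurj n (x n)).choose_spec
  obtain ⟨a, ha⟩ := hlim.2.2 x hx
  exact ⟨a, ha 0⟩

lemma isNilpotent_pi_of_mem_ker (hlim : FlatCA.IsRingLimit A A' φ π)
    (hnil : ∀ n, ∀ x ∈ RingHom.ker (φ n), IsNilpotent x) {a : A} (ha : π 0 a = 0) :
    ∀ n, IsNilpotent (π n a) := by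
  intro n
  induction n with
  | zero => rw [ha]; exact IsNilpotent.zero
  | succ n ih =>
    obtain ⟨k, hk⟩ := ih
    have h1 : φ n (π (n + 1) a) = π n a := by rw [← hlim.1 n]; rfl
    have h2 : (π (n + 1) a) ^ k ∈ RingHom.ker (φ n) := by
      rw [RingHom.mem_ker, map_pow, h1, hk]
    obtain ⟨m, hm⟩ := hnil n _ h2
    exact ⟨k * m, by rw [pow_mul, hm]⟩

lemma isUnit_one_add (hlim : FlatCA.IsRingLimit A A' φ π)
    (hnil : ∀ n, ∀ x ∈ RingHom.ker (φ n), IsNilpotent x) {a : A} (ha : π 0 a = 0) :
    IsUnit (1 + a) := by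
  have hu : ∀ n, IsUnit (π n (1 + a)) := fun n => by
    rw [map_add, map_one]
    exact (isNilpotent_pi_of_mem_ker hlim hnil ha n).isUnit_one_add
  choose v hv using fun n => (hu n).exists_right_inv
  have hcompat : ∀ n, φ n (v (n + 1)) = v n := by
    intro n
    have h1 : π n (1 + a) * φ n (v (n + 1)) = 1 := by
      rw [← hlim.1 n, RingHom.comp_apply, ← map_mul, hv, map_one]
    calc φ n (v (n + 1)) = (v n * π n (1 + a)) * φ n (v (n + 1)) := by
          rw [mul_comm (v n), hv, one_mul]
      _ = v n * (π n (1 + a) * φ n (v (n + 1))) := mul_assoc _ _ _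
      _ = v n := by rw [h1, mul_one]
  obtain ⟨w, hw⟩ := hlim.2.2 v hcompat
  refine IsUnit.of_mul_eq_one w ?_
  apply hlim.2.1
  intro n
  rw [map_mul, hw, hv, map_one]

lemma eq_univ_of_isOpen_of_range_subset (hlim : FlatCA.IsRingLimit A A' φ π)
    (hsurj : ∀ n, Function.Surjective (φ n))
    (hnil : ∀ n, ∀ x ∈ RingHom.ker (φ n), IsNilpotent x)
    {W : Set (PrimeSpectrum A)} (hW : IsOpen W)
    (hr : Set.range (PrimeSpectrum.comap (π 0)) ⊆ W) : W = Set.univ := by
  by_contra hne
  obtain ⟨J, hJ⟩ := (PrimeSpectrum.isClosed_iff_zeroLocus_ideal _).mp hW.isClosed_compl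
  have hJne : J ≠ ⊤ := by
    rintro rfl
    rw [Submodule.top_coe, PrimeSpectrum.zeroLocus_univ] at hJ
    exact hne (Set.compl_empty_iff.mp hJ)
  obtain ⟨m, hm, hJm⟩ := Ideal.exists_le_maximal J hJne
  have hmem : (⟨m, hm.isPrime⟩ : PrimeSpectrum A) ∈ Wᶜ := by
    rw [hJ]; exact hJm
  apply hmem
  apply hr
  rw [range_comap_of_surjective _ (π 0) (pi_zero_surjective hlim hsurj)]
  intro a ha
  by_contra ham
  obtain ⟨y, i, hi, hyi⟩ := hm.exists_inv ham
  have hker : π 0 (-(y * a)) = 0 := by
    rw [map_neg, map_mul, (RingHom.mem_ker).mp ha, mul_zero, neg_zero]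
  have hunit : IsUnit i := by
    have : i = 1 + -(y * a) := by rw [← hyi]; ring
    rw [this]
    exact isUnit_one_add hlim hnil hker
  exact hm.ne_top (Ideal.eq_top_of_isUnit_mem _ hi hunit)

lemma exists_lift (hlim : FlatCA.IsRingLimit A A' φ π) {B : Type u} [CommRing B]
    (ψ : ∀ n, B →+* A' n) (hψ : ∀ n, (φ n).comp (ψ (n + 1)) = ψ n) :
    ∃ Ψ : B →+* A, ∀ n, (π n).comp Ψ = ψ n := by
  have hex : ∀ b : B, ∃ a : A, ∀ n, π n a = ψ n b := fun b =>
    hlim.2.2 (fun n => ψ n b) (fun n => by rw [← hψ n]; rfl)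
  choose F hF using hex
  have hinj := hlim.2.1
  refine ⟨{ toFun := F, map_one' := ?_, map_mul' := ?_, map_zero' := ?_, map_add' := ?_ }, ?_⟩
  · apply hinj; intro n; rw [hF, map_one, map_one]
  · intro x y; apply hinj; intro n; rw [map_mul, hF, hF, hF, map_mul]
  · apply hinj; intro n; rw [hF, map_zero, map_zero]
  · intro x y; apply hinj; intro n; rw [map_add, hF, hF, hF, map_add]
  · intro n; ext b; exact hF b n

lemma comap_surjective_of_nil {R S : Type u} [CommRing R] [CommRing S] (f : R →+* S)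
    (hf : Function.Surjective f) (hnil : ∀ x ∈ RingHom.ker f, IsNilpotent x) :
    Function.Surjective (PrimeSpectrum.comap f) := by
  rw [← Set.range_eq_univ, range_comap_of_surjective _ f hf]
  ext p
  simp only [PrimeSpectrum.mem_zeroLocus, Set.mem_univ, iff_true]
  intro x hx
  obtain ⟨k, hk⟩ := hnil x hx
  exact p.2.mem_of_pow_mem k (by rw [hk]; exact zero_mem _)

end Alg

lemma exists_compact_open_superset (T : Scheme.{u}) {K : Set T} (hK : IsCompact K) :
    ∃ U : T.Opens, IsCompact (U : Set T) ∧ K ⊆ U := by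
  have hcov : K ⊆ ⋃ (V : T.affineOpens), ((V : T.Opens) : Set T) := by
    intro t _
    obtain ⟨_, ⟨V, hV, rfl⟩, htV, -⟩ :=
      T.isBasis_affineOpens.exists_subset_of_mem_open (Set.mem_univ t) isOpen_univ
    exact Set.mem_iUnion.mpr ⟨⟨V, hV⟩, htV⟩
  obtain ⟨s, hs⟩ := hK.elim_finite_subcover (fun V : T.affineOpens => ((V : T.Opens) : Set T))
    (fun V => (V : T.Opens).isOpen) hcov
  refine ⟨⨆ V ∈ s, (V : T.Opens), ?_, ?_⟩
  · simp only [TopologicalSpace.Opens.coe_iSup]
    exact s.finite_toSet.isCompact_biUnion (fun V _ => V.2.isCompact)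
  · simpa only [TopologicalSpace.Opens.coe_iSup] using hs

variable {A : Type u} [CommRing A] (A' : ℕ → Type u) [∀ n, CommRing (A' n)]
    (φ : ∀ n, A' (n + 1) →+* A' n) (π : ∀ n, A →+* A' n)

theorem main (hlim : FlatCA.IsRingLimit A A' φ π)
    (hsurj : ∀ n, Function.Surjective (φ n)) (hnil : ∀ n, ∀ x ∈ RingHom.ker (φ n), IsNilpotent x)
    {T : Scheme.{u}} (h : T ⟶ Spec (CommRingCat.of A)) [Mono h] [LocallyOfFiniteType h]
    (hsec : ∀ n, ∃ g : Spec (CommRingCat.of (A' n)) ⟶ T,
      g ≫ h = Spec.map (CommRingCat.ofHom (π n))) :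
    IsIso h := by
  choose g hg using hsec
  -- compatibility of the `g n`
  have hcompat : ∀ n, Spec.map (CommRingCat.ofHom (φ n)) ≫ g (n + 1) = g n := by
    intro n
    rw [← cancel_mono h, Category.assoc, hg, hg, ← Spec.map_comp, ← CommRingCat.ofHom_comp,
      hlim.1 n]
  -- ranges
  have hrange : ∀ n, Set.range (g n) ⊆ Set.range (g 0) := by
    intro n
    induction n with
    | zero => exact le_rfl
    | succ n ih =>
      refine subset_trans ?_ ih
      rintro _ ⟨p, rfl⟩
      obtain ⟨q, rfl⟩ := comap_surjective_of_nil (φ n) (hsurj n) (hnil n) p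
      refine ⟨q, ?_⟩
      rw [← hcompat n]
      rfl
  obtain ⟨U, hUc, hKU⟩ := exists_compact_open_superset T
    (isCompact_range (g 0).continuous)
  haveI : CompactSpace U := isCompact_iff_compactSpace.mp hUc
  -- lifts to `U`
  have hgU : ∀ n, Set.range (g n) ⊆ Set.range U.ι := by
    intro n
    rw [Scheme.Opens.range_ι]
    exact (hrange n).trans hKU
  let g' : ∀ n, Spec (CommRingCat.of (A' n)) ⟶ U := fun n =>
    IsOpenImmersion.lift U.ι (g n) (hgU n)
  have hg' : ∀ n, g' n ≫ U.ι = g n := fun n => IsOpenImmersion.lift_fac _ _ _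
  let f : (U : Scheme.{u}) ⟶ Spec (CommRingCat.of A) := U.ι ≫ h
  have hg'f : ∀ n, g' n ≫ f = Spec.map (CommRingCat.ofHom (π n)) := fun n => by
    rw [← Category.assoc, hg', hg]
  have hcompat' : ∀ n, Spec.map (CommRingCat.ofHom (φ n)) ≫ g' (n + 1) = g' n := by
    intro n
    rw [← cancel_mono U.ι, Category.assoc, hg', hg', hcompat]
  haveI : Mono f := mono_comp _ _
  haveI : LocallyOfFiniteType f := inferInstance
  haveI : QuasiCompact f := inferInstance
  haveI : IsSeparated f := inferInstance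
  haveI : LocallyQuasiFinite f := inferInstance
  haveI : IsOpenImmersion f.toNormalization := inferInstance
  haveI : IsAffine f.normalization := isAffine_of_isAffineHom f.fromNormalization
  -- affine coordinates on the normalization
  let B : CommRingCat.{u} := Γ(f.normalization, ⊤)
  let e : f.normalization ≅ Spec B := f.normalization.isoSpec
  let k : ∀ n, Spec (CommRingCat.of (A' n)) ⟶ Spec B := fun n =>
    g' n ≫ f.toNormalization ≫ e.hom
  have hk : ∀ n, Spec.map (CommRingCat.ofHom (φ n)) ≫ k (n + 1) = k n := by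
    intro n
    simp only [k]
    rw [← Category.assoc, hcompat']
  let ψ : ∀ n, B →+* A' n := fun n => (Spec.preimage (k n)).hom
  have hψk : ∀ n, Spec.map (CommRingCat.ofHom (ψ n)) = k n := fun n => by
    simp only [ψ, CommRingCat.ofHom_hom, Spec.map_preimage]
  have hψ : ∀ n, (φ n).comp (ψ (n + 1)) = ψ n := by
    intro n
    have : CommRingCat.ofHom ((φ n).comp (ψ (n + 1))) = CommRingCat.ofHom (ψ n) := by
      apply Spec.map_injective
      rw [CommRingCat.ofHom_comp, Spec.map_comp, hψk, hψk, hk]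
    exact congrArg CommRingCat.Hom.hom this
  obtain ⟨Ψ, hΨ⟩ := exists_lift hlim ψ hψ
  let σ' : Spec (CommRingCat.of A) ⟶ Spec B := Spec.map (CommRingCat.ofHom Ψ)
  have hσ' : ∀ n, Spec.map (CommRingCat.ofHom (π n)) ≫ σ' = k n := by
    intro n
    rw [← hψk, ← hΨ n, CommRingCat.ofHom_comp, Spec.map_comp]
  let q : Spec B ⟶ Spec (CommRingCat.of A) := e.inv ≫ f.fromNormalization
  have hkq : ∀ n, k n ≫ q = Spec.map (CommRingCat.ofHom (π n)) := by
    intro n
    simp only [k, q, Category.assoc, Iso.hom_inv_id_assoc]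
    rw [f.toNormalization_fromNormalization, hg'f]
  have hσ'q : σ' ≫ q = 𝟙 _ := by
    let α : CommRingCat.of A ⟶ B := Spec.preimage q
    have hα : Spec.map α = q := Spec.map_preimage q
    have hαψ : ∀ n, (ψ n).comp α.hom = π n := by
      intro n
      have : α ≫ CommRingCat.ofHom (ψ n) = CommRingCat.ofHom (π n) := by
        apply Spec.map_injective
        rw [Spec.map_comp, hψk, hα, hkq]
      exact congrArg CommRingCat.Hom.hom this
    have hid : Ψ.comp α.hom = RingHom.id A := by
      ext a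
      apply hlim.2.1
      intro n
      have h1 : π n (Ψ (α.hom a)) = ψ n (α.hom a) := by
        rw [← hΨ n]; rfl
      rw [RingHom.comp_apply, h1, RingHom.id_apply, ← hαψ n]
      rfl
    have : α ≫ CommRingCat.ofHom Ψ = 𝟙 (CommRingCat.of A) := by
      ext a
      exact congrArg (fun r : A →+* A => r a) hid
    rw [← hα, ← Spec.map_comp, this, Spec.map_id]
  let σ : Spec (CommRingCat.of A) ⟶ f.normalization := σ' ≫ e.inv
  have hσfrom : σ ≫ f.fromNormalization = 𝟙 _ := by
    simp only [σ, Category.assoc]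
    exact hσ'q
  have hσ0 : Spec.map (CommRingCat.ofHom (π 0)) ≫ σ = g' 0 ≫ f.toNormalization := by
    simp only [σ]
    rw [← Category.assoc, hσ' 0]
    simp only [k, Category.assoc, Iso.hom_inv_id, Category.comp_id]
  -- `σ` lands in the open `U ⊆ normalization`
  have hWuniv : (σ ⁻¹ᵁ f.toNormalization.opensRange : Set (Spec (CommRingCat.of A))) =
      Set.univ := by
    apply eq_univ_of_isOpen_of_range_subset hlim hsurj hnil
      (σ ⁻¹ᵁ f.toNormalization.opensRange).isOpen
    rintro _ ⟨p, rfl⟩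
    show σ (Spec.map (CommRingCat.ofHom (π 0)) p) ∈ Set.range f.toNormalization
    rw [← Scheme.Hom.comp_apply, hσ0, Scheme.Hom.comp_apply]
    exact ⟨_, rfl⟩
  have hσrange : Set.range σ ⊆ Set.range f.toNormalization := by
    rintro _ ⟨s, rfl⟩
    have : s ∈ (σ ⁻¹ᵁ f.toNormalization.opensRange : Set (Spec (CommRingCat.of A))) := by
      rw [hWuniv]; trivial
    exact this
  let τ : Spec (CommRingCat.of A) ⟶ U := IsOpenImmersion.lift f.toNormalization σ hσrange
  have hτ : τ ≫ f.toNormalization = σ := IsOpenImmersion.lift_fac _ _ _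
  have hsplit : (τ ≫ U.ι) ≫ h = 𝟙 _ := by
    rw [Category.assoc]
    show τ ≫ f = 𝟙 _
    rw [← f.toNormalization_fromNormalization, ← Category.assoc, hτ, hσfrom]
  haveI : IsSplitEpi h := IsSplitEpi.mk' ⟨τ ≫ U.ι, hsplit⟩
  exact isIso_of_mono_of_isSplitEpi h

end Groth.Agent.Helper2.NilLimit
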